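import Groth.Agent.SSMod.K122.Plan2
import Groth.Agent.CurvSt.K901.SchPre
import Groth.Agent.Sga4h.H912.NormCover
import Groth.Agent.Sga7.H591.GeoFib

/-!
# Compactification of a nodal curve by a nodal curve (node (L1) of `LocSS`)

`K46.Compact.main : K122.Plan2.Compact`: for a nodal curve `C` open in a proper scheme `Y` over an algebraically
closed field, the normalization of `Y` in `C` is finite over `Y`, nodal, and contains `C` as the inverse image of `C`.
-/

set_option autoImplicit false
universe u
open CategoryTheory CategoryTheory.Limits AlgebraicGeometry TopologicalSpace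

namespace K46.Compact

open Groth.Agent

/-- The scheme-theoretic statement over a perfect field. -/
theorem exists_nodal (k : Type u) [Field k] [PerfectField k] {C Y : Scheme.{u}}
    (pC : C ⟶ Spec (CommRingCat.of k)) (pY : Y ⟶ Spec (CommRingCat.of k)) [LocallyOfFiniteType pY] [QuasiCompact pY]
    [QuasiCompact pC] (hC : Curv2.IsNodalFamily pC) (j : C ⟶ Y) [IsOpenImmersion j] (hj : j ≫ pY = pC)
    [QuasiCompact j] :
    IsFinite j.fromNormalization ∧ Curv2.IsNodalFamily (j.fromNormalization ≫ pY) ∧
      IsOpenImmersion j.toNormalization ∧ IsPullback j.toNormalization (𝟙 C) j.fromNormalization j := by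
  have hlfp := hC.2.1
  have hred : IsReduced C := Sga7.H591.GeoFib.isReduced pC hC
  have hdim : topologicalKrullDim C ≤ 1 := by
    rw [VarietyB.DimTop.topologicalKrullDim_eq_iSup_irreducibleComponents]
    exact iSup_le fun Z => (((K901.SchPre.nodal_field_iff pC).mpr hC).2 Z.1 Z.2).le
  have hYN : IsLocallyNoetherian Y := LocallyOfFiniteType.isLocallyNoetherian pY
  have hfin : IsFinite j.fromNormalization :=
    CurvesA.NormFinite.isFinite_fromNormalization j (fun U hU S _ _ _ _ =>
      S0573.result Γ(Y, U) (CurvesA.AffCurveGeom.isNagata_app k pY U hU) S)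
  let q := j.fromNormalization ≫ pY
  have hq1 : LocallyOfFiniteType q := inferInstance
  have hq2 : QuasiCompact q := inferInstance
  have hio : IsOpenImmersion j.toNormalization := inferInstance
  have hdom : IsDominant j.toNormalization := inferInstance
  have hw : j.toNormalization ≫ j.fromNormalization = j := j.toNormalization_fromNormalization
  have hq : j.toNormalization ≫ q = pC := by
    rw [← hj]
    exact j.toNormalization_fromNormalization_assoc pY
  refine ⟨hfin, ?_, hio, ?_⟩
  · have hredN : IsReduced j.normalization := inferInstance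
    have hq3 : LocallyOfFinitePresentation q := inferInstance
    let : j.normalization.Over (Spec (CommRingCat.of k)) := ⟨q⟩
    have hq4 : LocallyOfFinitePresentation (j.normalization ↘ (Spec (CommRingCat.of k))) := hq3
    have hreg := (S1561.result k j.normalization).1
    rw [K901.SchPre.isNodalFamily_iff]
    intro x
    by_cases hx : x ∈ Set.range j.toNormalization
    · obtain ⟨c, rfl⟩ := hx
      refine (K901.SchPre.locusProp_nodal.source j.toNormalization q c).mp ?_
      rw [hq]
      exact (K901.SchPre.isNodalFamily_iff pC).mp hC c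
    · obtain ⟨U, hU, hxU, -⟩ := exists_isAffineOpen_mem_and_subset
        (x := j.fromNormalization x) (U := ⊤) trivial
      obtain ⟨h1, h2⟩ := CurvesA.CurveNorm.exists_isDomain_stalk k q j.toNormalization hdim
        (j.fromNormalization ⁻¹ᵁ U) (hU.preimage _)
        (CurvesA.NormFinite.isIntegrallyClosedIn_toNormalization j U hU) x hxU hx
      have h3 : x ∈ q.smoothLocus := (hreg x).mpr inferInstance
      let W := q.smoothLocus
      let g := j.toNormalization ∣_ W
      have hle : ∀ (p : C ⟶ Spec (CommRingCat.of k)) [LocallyOfFinitePresentation p], j.toNormalization ≫ q = p →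
          j.toNormalization ⁻¹ᵁ W ≤ p.smoothLocus := by
        intro p _ hp
        subst hp
        exact (Scheme.Hom.preimage_smoothLocus_eq j.toNormalization q).le
      have hle' := hle pC hq
      have hgq : g ≫ W.ι ≫ q = C.homOfLE hle' ≫ pC.smoothLocus.ι ≫ pC := by
        rw [← Category.assoc, morphismRestrict_ι, Category.assoc, hq, ← Category.assoc, Scheme.homOfLE_ι]
      have hsr := Sga7.H591.GeoFib.smoothRel pC hC
      have hs : SmoothOfRelativeDimension 1 (g ≫ W.ι ≫ q) := by
        have h5 : SmoothOfRelativeDimension (0 + 1) (C.homOfLE hle' ≫ pC.smoothLocus.ι ≫ pC) := inferInstance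
        rw [Nat.zero_add] at h5
        rw [hgq]
        exact h5
      have hWs : Smooth (W.ι ≫ q) := by
        rw [← Scheme.Hom.smoothLocus_eq_top_iff, ← Scheme.Hom.preimage_smoothLocus_eq]
        exact Scheme.Opens.ι_preimage_self W
      have hgd : IsDominant g := IsZariskiLocalAtTarget.restrict hdom W
      have hWr : SmoothOfRelativeDimension 1 (W.ι ≫ q) :=
        Ega2.SmoothBdry.smoothOfRelativeDimension_of_dense g (W.ι ≫ q) 1 g.denseRange
      exact S1591.le_nodalLocus q W (CurvesB.NodalExist.isNodalFamily_of_smooth (W.ι ≫ q)) h3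
  · exact Sga4h.H912.NormCover.isPullback_of_finite (𝟙 C) j j.toNormalization j.fromNormalization (by
      rw [hw, Category.id_comp])

/-- **(L1)** -/
theorem main : K122.Plan2.Compact.{u} := by
  intro k _ _ C Y pC pY _ _ hC j _ hj
  have hYsep : IsSeparated pY := inferInstance
  have hqj : QuasiCompact j := by
    have : QuasiCompact (j ≫ pY) := by rw [hj]; infer_instance
    exact QuasiCompact.of_comp j pY
  obtain ⟨h1, h2, h3, h4⟩ := exists_nodal k pC pY hC j hj
  exact ⟨_, _, _, h1, h2, h3, h4⟩

end K46.Compact
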